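import Mathlib
import Cfsg.Agent.Helper5.SuBN.Defs

/-!
# Siegel elements of `SO_n` for the antidiagonal form (helper45, for S2547)

`σ = RingHom.id F`: `UG n (RingHom.id F)` is the special orthogonal group of the symmetric bilinear form
`∑ i, u i * v (Fin.rev i)`.  For a row `j < Fin.rev j` and `w : Fin n → F` supported strictly between `j` and
`Fin.rev j`, `sgMat j w = 1 + N + N^2/2` with `N = ∑ b, w b • (E_{j,b} - E_{rev b, rev j})`.
-/

set_option autoImplicit false

namespace Cfsg.Agent.Helper45.OddBN

open Matrix Cfsg.Agent.Helper5.SuBN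

variable {F : Type*} [Field F] {n : ℕ}

/-- the special orthogonal group of the antidiagonal symmetric form -/
abbrev SOJ (n : ℕ) (F : Type*) [Field F] := UG n (RingHom.id F)

/-- the Siegel element of row `j` with parameter `w` -/
def sgMat (j : Fin n) (w : Fin n → F) : Matrix (Fin n) (Fin n) F :=
  Matrix.of fun a b => (if a = b then 1 else 0) + (if a = j then w b else 0)
    - (if b = Fin.rev j then w (Fin.rev a) else 0)
    - (if a = j ∧ b = Fin.rev j then 2⁻¹ * ∑ c, w c * w (Fin.rev c) else 0)

theorem sgMat_apply (j : Fin n) (w : Fin n → F) (a b : Fin n) :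
    sgMat j w a b = (if a = b then 1 else 0) + (if a = j then w b else 0)
      - (if b = Fin.rev j then w (Fin.rev a) else 0)
      - (if a = j ∧ b = Fin.rev j then 2⁻¹ * ∑ c, w c * w (Fin.rev c) else 0) := rfl

/-- the first `j` rows of `g` are those of the identity matrix -/
def RowFix (j : ℕ) (g : SOJ n F) : Prop :=
  ∀ a b : Fin n, a.val < j → mat g a b = if a = b then 1 else 0

end Cfsg.Agent.Helper45.OddBN
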