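import Mathlib
import Cfsg.Prelude.Def_ParabolicCharacters
import Cfsg.Agent.Helper74.DegP3
import Cfsg.Agent.Helper74.DefectZero
import Cfsg.Agent.Helper80.Pullback
import Cfsg.Agent.Helper19.Stein.ChevStein
import Cfsg.Agent.Helper55.SpBNP13

/-!
# Restricting a Steinberg-like character to a normal subgroup containing `U` (helper45, for S2547)
-/

set_option autoImplicit false

namespace Cfsg.Agent.Helper45.OddBN

open Cfsg

universe u

/-- a normal subgroup containing a `p`-subgroup of Sylow order has index prime to `p` -/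
theorem not_dvd_index_of_le {G : Type u} [Group G] [Finite G] (p : ℕ) [hp : Fact p.Prime]
    (U N : Subgroup G) (hUN : U ≤ N) (hsyl : ∀ Q : Sylow p G, Nat.card Q = Nat.card U) :
    ¬ p ∣ N.index := by
  intro hdvd
  obtain ⟨Q⟩ : Nonempty (Sylow p G) := inferInstance
  have h1 : Nat.card U = p ^ (Nat.card G).factorization p := by
    rw [← hsyl Q, Sylow.card_eq_multiplicity]
  have h2 : p ∣ U.index := hdvd.trans (Subgroup.index_dvd_of_le hUN)
  have h3 := U.card_mul_index
  have h4 : p ^ ((Nat.card G).factorization p + 1) ∣ Nat.card G := by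
    have h5 : p ^ ((Nat.card G).factorization p) * p ∣ Nat.card U * U.index := by
      rw [h1]; exact Nat.mul_dvd_mul_left _ h2
    rw [h3] at h5
    rw [pow_succ]; exact h5
  exact Nat.pow_succ_factorization_not_dvd Nat.card_pos.ne' hp.out h4

/-- the descent of a Steinberg-like character to a normal subgroup containing `U` -/
theorem descend_to_normal {G : Type u} [Group G] [Finite G] (p : ℕ) [hp : Fact p.Prime]
    (B U T N : Subgroup G) [N.Normal]
    (hUB : U ≤ B) (hTB : T ≤ B) (hUN : U ≤ N)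
    (hBUT : ∀ b ∈ B, ∃ u ∈ U, ∃ t ∈ T, b = u * t) (hUT : ∀ g, g ∈ U → g ∈ T → g = 1)
    (χ : G → ℂ)
    (hres : ∀ b : ↥B, χ (b : G) = fixedPointCharacter (T.subgroupOf B) b)
    (hsyl : ∀ Q : Sylow p G, Nat.card Q = Nat.card U)
    (h10 : ∀ g : G, (∀ u ∈ U, g⁻¹ * u * g ∈ B) → g ∈ B)
    (hirr : IsIrrCharacter N (fun x : N => χ x)) :
    ∃ χ₀ : N → ℂ, IsIrrCharacter N χ₀ ∧ (∀ z ∈ Subgroup.center N, χ₀ z = χ₀ 1) ∧
      (∀ Q : Sylow p N, χ₀ 1 = Nat.card Q) ∧ ¬ p ∣ Nat.card (Subgroup.center N) := by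
  classical
  have : Fintype N := Fintype.ofFinite _
  have hidx : ¬ p ∣ N.index := not_dvd_index_of_le p U N hUN hsyl
  set χ₀ : N → ℂ := fun x : N => χ x with hχ₀
  have hchar : IsCharacter N χ₀ := Helper74.isCharacter_of_isIrr hirr
  -- the degree
  have h1 : χ₀ 1 = (Nat.card U : ℂ) := by
    have h := hres 1
    rw [Cfsg.Agent.Helper19.Stein.fixedPointCharacter_one,
      Cfsg.Agent.Helper55.SpBNP13.index_subgroupOf_eq_card U T B hUB hTB hBUT hUT] at h
    exact h
  have hUpos : 0 < Nat.card U := Nat.card_pos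
  have hdeg : charDegree χ₀ = Nat.card U := by
    have := Helper74.charDegree_cast hchar
    rw [h1] at this
    exact_mod_cast this
  -- central elements
  have hcen : ∀ z ∈ Subgroup.center N, χ₀ z = χ₀ 1 := by
    intro z hz
    have hzB : (z : G) ∈ B := by
      apply h10
      intro u hu
      have hc := Subgroup.mem_center_iff.mp hz ⟨u, hUN hu⟩
      have hc' : u * (z : G) = (z : G) * u := congrArg Subtype.val hc
      rw [mul_assoc, hc', ← mul_assoc, inv_mul_cancel, one_mul]
      exact hUB hu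
    have hk : χ₀ z = ((Nat.card (MulAction.fixedBy (↥B ⧸ T.subgroupOf B) (⟨z, hzB⟩ : ↥B)) : ℕ) : ℂ) := by
      have := hres ⟨z, hzB⟩
      exact this
    have hnorm : ‖χ₀ z‖ = (charDegree χ₀ : ℝ) := by
      have hmem := Helper74.center_le_charCenter (⟨χ₀, hirr⟩ : IrrCharacter N) hz
      exact (Helper74.mem_charCenter_iff (⟨χ₀, hirr⟩ : IrrCharacter N) z).1 hmem
    rw [hk, Complex.norm_natCast] at hnorm
    have hnat : Nat.card (MulAction.fixedBy (↥B ⧸ T.subgroupOf B) (⟨z, hzB⟩ : ↥B)) = charDegree χ₀ := by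
      exact_mod_cast hnorm
    rw [hk, hnat, Helper74.charDegree_cast hchar]
  -- the Sylow subgroups of `N`
  have hfac : (Nat.card N).factorization p = (Nat.card G).factorization p := by
    have h := N.card_mul_index
    rw [← h, Nat.factorization_mul Nat.card_pos.ne' (Subgroup.index_ne_zero_of_finite),
      Finsupp.add_apply, Nat.factorization_eq_zero_of_not_dvd hidx, add_zero]
  obtain ⟨Q₀⟩ : Nonempty (Sylow p G) := inferInstance
  have hUcard : Nat.card U = p ^ (Nat.card N).factorization p := by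
    rw [← hsyl Q₀, Sylow.card_eq_multiplicity, hfac]
  refine ⟨χ₀, hirr, hcen, ?_, ?_⟩
  · intro Q
    rw [h1, hUcard, Sylow.card_eq_multiplicity]
  · intro hdvd
    obtain ⟨z, hz⟩ := exists_prime_orderOf_dvd_card' (G := ↥(Subgroup.center ↥N)) p hdvd
    have hz' : orderOf (z : N) = p := by
      rw [Subgroup.orderOf_coe]; exact hz
    have hdiv : p ^ (Nat.card N).factorization p ∣ charDegree χ₀ := by
      rw [hdeg, hUcard]
    have h0 := Helper74.irr_eq_zero_of_defect_zero (⟨χ₀, hirr⟩ : IrrCharacter N) hp.out hdiv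
      (z : N) (by rw [hz'])
    have h1' : χ₀ (z : N) = χ₀ 1 := hcen _ z.2
    have : χ₀ (z : N) = 0 := h0
    rw [h1', h1] at this
    have : Nat.card U = 0 := by exact_mod_cast this
    omega

/-- transport along an isomorphism and descent to the central quotient (from helper5's S2546 skeleton) -/
theorem steinberg_of_mulEquiv' {G H : Type*} [Group G] [Group H] [Finite G] (e : G ≃* H)
    (p : ℕ) [hp : Fact p.Prime]
    (h : ∃ χ : G → ℂ, IsIrrCharacter G χ ∧ (∀ z ∈ Subgroup.center G, χ z = χ 1) ∧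
      (∀ Q : Sylow p G, χ 1 = Nat.card Q) ∧ ¬ p ∣ Nat.card (Subgroup.center G)) :
    ∃ χ : H ⧸ Subgroup.center H → ℂ, IsIrrCharacter (H ⧸ Subgroup.center H) χ ∧
      ∀ P : Sylow p (H ⧸ Subgroup.center H), χ 1 = Nat.card P ∧
        ∀ x : H ⧸ Subgroup.center H, x ∈ P → x ≠ 1 → χ x = 0 := by
  classical
  have : Finite H := Finite.of_equiv G e.toEquiv
  have : Fintype (H ⧸ Subgroup.center H) := Fintype.ofFinite _
  obtain ⟨χ, hχ, hcent, hdeg, hz⟩ := h
  let f : G →* H ⧸ Subgroup.center H := (QuotientGroup.mk' (Subgroup.center H)).comp e.toMonoidHom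
  have hf : Function.Surjective f :=
    (QuotientGroup.mk'_surjective _).comp e.surjective
  have hker : ∀ g : G, f g = 1 → g ∈ Subgroup.center G := by
    intro g hg
    have h1 : e g ∈ Subgroup.center H := by
      have : (QuotientGroup.mk' (Subgroup.center H)) (e g) = 1 := hg
      rwa [QuotientGroup.mk'_apply, QuotientGroup.eq_one_iff] at this
    rw [Subgroup.mem_center_iff] at h1 ⊢
    intro x
    apply e.injective
    rw [map_mul, map_mul]
    exact h1 (e x)
  obtain ⟨ψ, hψ, hval⟩ := Cfsg.Agent.Helper80.IsIrrCharacter.exists_descend hχ f hf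
    (fun g hg => hcent g (hker g hg))
  refine ⟨ψ, hψ, fun P => ?_⟩
  obtain ⟨Q⟩ : Nonempty (Sylow p G) := inferInstance
  have hcardGH : Nat.card G = Nat.card H := Nat.card_congr e.toEquiv
  have hcen : Nat.card (Subgroup.center G) = Nat.card (Subgroup.center H) := by
    apply Nat.card_congr
    exact (Subgroup.centerCongr e).toEquiv
  have hPQ : Nat.card P = Nat.card Q := by
    rw [Sylow.card_eq_multiplicity, Sylow.card_eq_multiplicity]
    have h1 := Subgroup.card_eq_card_quotient_mul_card_subgroup (Subgroup.center H)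
    have hzH : ¬ p ∣ Nat.card (Subgroup.center H) := by rwa [← hcen]
    rw [hcardGH, h1, Nat.factorization_mul Nat.card_pos.ne' Nat.card_pos.ne', Finsupp.add_apply,
      Nat.factorization_eq_zero_of_not_dvd hzH, add_zero]
  have h1' : ψ 1 = (Nat.card P : ℂ) := by
    have h := hval 1
    rw [map_one] at h
    rw [← h, hdeg Q, hPQ]
  refine ⟨h1', fun x hx hx1 => ?_⟩
  have hdeg' : charDegree ψ = Nat.card P := by
    have := Cfsg.Agent.Helper74.charDegree_cast (Cfsg.Agent.Helper74.isCharacter_of_isIrr hψ)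
    rw [h1'] at this
    exact_mod_cast this
  have hdiv : p ^ (Nat.card (H ⧸ Subgroup.center H)).factorization p ∣ charDegree ψ := by
    rw [hdeg', Sylow.card_eq_multiplicity]
  have hy : p ∣ orderOf x := by
    obtain ⟨k, hk⟩ := (IsPGroup.iff_orderOf.1 P.isPGroup') ⟨x, hx⟩
    rw [Subgroup.orderOf_mk] at hk
    rw [hk]
    have hk0 : k ≠ 0 := by
      rintro rfl
      rw [pow_zero, orderOf_eq_one_iff] at hk
      exact hx1 hk
    exact dvd_pow_self p hk0
  exact Cfsg.Agent.Helper74.irr_eq_zero_of_defect_zero ⟨ψ, hψ⟩ hp.out hdiv x hy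

end Cfsg.Agent.Helper45.OddBN
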