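import Mathlib
import Cfsg.Agent.Helper5.SuBN.Defs
import Cfsg.Agent.Helper33.SuBNMEMS
import Cfsg.Agent.Helper65.SuBNCN
import Cfsg.Agent.Helper53.SuBNSINJ

/-!
# Odd `n`: the reflection matrices of helper5's `SUJ n σ` need no element `c` with `σ c = -c`
(helper45, for S2547)
-/

set_option autoImplicit false

namespace Cfsg.Agent.Helper45.OddBN

open Matrix Cfsg.Agent.Helper5.SuBN

variable {F : Type*} [Field F] {n : ℕ} {σ : F →+* F}

theorem sSign_mul_odd (hn : n % 2 = 1) (c : F) (k : Fin (n / 2)) (a : Fin n) :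
    sSign c k a * σ (sSign c k (Fin.rev a)) = 1 := by
  have hk := k.2
  have ha := a.2
  unfold sSign
  by_cases h1 : 2 * k.val + 3 < n
  · rw [if_pos h1, if_pos h1, map_one, mul_one]
  · rw [if_neg h1, if_neg h1]
    have h2 : ¬ 2 * k.val + 2 = n := by omega
    rw [if_neg h2, if_neg h2]
    have h3 : 2 * k.val + 3 = n := by omega
    have hrev_ib : Fin.rev (ib k) = ib k := by
      apply Fin.ext; rw [val_rev, val_ib]; omega
    by_cases ha1 : a = ib k
    · rw [ha1, if_pos rfl, hrev_ib, if_pos rfl, map_neg, map_one]; ring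
    · have : Fin.rev a ≠ ib k := by
        intro h; apply ha1; rw [← hrev_ib] at h; exact Fin.rev_injective h
      rw [if_neg ha1, if_neg this, map_one, mul_one]

theorem sMat_unitary_odd (hn : n % 2 = 1) (c : F) (k : Fin (n / 2)) (a b : Fin n) :
    ∑ i, sMat c k i a * σ (sMat c k (Fin.rev i) b) = if a = Fin.rev b then 1 else 0 := by
  rw [Finset.sum_eq_single (sPerm k a)]
  · rw [sMat_apply, if_pos rfl, sMat_apply, ← sPerm_rev]
    by_cases hab : a = Fin.rev b
    · rw [if_pos hab]
      have hb : b = Fin.rev a := by rw [hab, Fin.rev_rev]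
      rw [← hb, if_pos rfl, hb]
      exact sSign_mul_odd hn c k a
    · rw [if_neg hab, if_neg, map_zero, mul_zero]
      intro h
      apply hab
      have := (sPerm k).injective h
      rw [← this, Fin.rev_rev]
  · intro i _ hi
    rw [sMat_apply, if_neg hi, zero_mul]
  · intro h; exact absurd (Finset.mem_univ _) h

/-- (MEMS, odd `n`) -/
theorem sMat_isUJ_odd (hn : n % 2 = 1) (c : F) (hc0 : c ≠ 0) (k : Fin (n / 2)) :
    IsUJ σ (sMat c k) := by
  refine ⟨?_, sMat_unitary_odd hn c k⟩
  rw [Cfsg.Agent.Helper33.SuBNMEMS.sMat_eq_submatrix, Matrix.det_permute, Matrix.det_diagonal]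
  exact Cfsg.Agent.Helper33.SuBNMEMS.sign_mul_prod c hc0 k

/-- (CN, odd `n`) `s B s ≠ B`; `u₀` is any element with `u₀ + σ u₀ + 1 = 0` (for `σ = id`: `-1/2`) -/
theorem conj_ne_odd (hn : n % 2 = 1)
    (hX : ∀ (k : Fin (n / 2)) (t u : F), Param σ k t u → IsUJ σ (xMat σ k t u))
    (c : F) (hc0 : c ≠ 0) (u₀ : F) (hu₀ : u₀ + σ u₀ + 1 = 0) (s : UG n σ) (hs : s ∈ Sset n σ c) :
    (fun b : UG n σ => s * b * s) '' (Bsub n σ : Set (UG n σ)) ≠ (Bsub n σ : Set (UG n σ)) := by
  classical
  obtain ⟨k, hsk⟩ := hs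
  have hk := k.2
  suffices h : ∃ x ∈ Bsub n σ, s * x * s ∉ Bsub n σ by
    obtain ⟨x, hxB, hx⟩ := h
    intro heq
    apply hx
    have : s * x * s ∈ (fun b : UG n σ => s * b * s) '' (Bsub n σ : Set (UG n σ)) :=
      Set.mem_image_of_mem _ hxB
    rw [heq] at this
    exact this
  have hne_ab : ia k ≠ ib k := by
    intro h
    have := congrArg Fin.val h
    rw [val_ia, val_ib] at this
    omega
  have hne_ar : ia k ≠ Fin.rev (ia k) := by
    intro h
    have := congrArg Fin.val h
    rw [val_rev, val_ia] at this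
    omega
  by_cases h1 : 2 * k.val + 3 < n
  · -- kind I
    have hP : Param σ k 1 0 := by
      unfold Param
      rw [if_pos h1]
    obtain ⟨x, hx⟩ := exists_of_isUJ (hX k 1 0 hP)
    have hxB : x ∈ Bsub n σ := by
      rw [mem_Bsub_iff]
      intro a b hab
      rw [hx]
      exact Cfsg.Agent.Helper65.SuBNCN.xMat_upper k 1 0 a b hab
    refine ⟨x, hxB, ?_⟩
    intro hB
    have h0 := (mem_Bsub_iff _).1 hB (ib k) (ia k) (by
      rw [Fin.lt_def, val_ia, val_ib]; omega)
    rw [mat_mul, mat_mul, hsk, hx, Cfsg.Agent.Helper65.SuBNCN.sMat_conj_apply] at h0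
    have hs1 : sPerm k (ib k) = ia k := by
      apply Fin.ext
      rw [val_sPerm, if_pos h1, val_ib, val_ia]
      rw [if_neg (by omega), if_pos rfl]
    have hs2 : sPerm k (ia k) = ib k := by
      apply Fin.ext
      rw [val_sPerm, if_pos h1, val_ib, val_ia]
      rw [if_pos rfl]
    have hsg : ∀ j, sSign c k j = 1 := by
      intro j
      unfold sSign
      rw [if_pos h1]
    have hxe : xMat σ k 1 0 (ia k) (ib k) = 1 := by
      rw [xMat_apply, if_neg hne_ab, if_pos ⟨rfl, rfl⟩, if_neg, ite_self]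
      · ring
      · rintro ⟨h3, -⟩
        have := congrArg Fin.val h3
        rw [val_rev, val_ib, val_ia] at this
        omega
    rw [hs1, hs2, hsg, hxe] at h0
    norm_num at h0
  · -- kind III
    have h2 : ¬ 2 * k.val + 2 = n := by omega
    have hu0 : u₀ ≠ 0 := by
      rintro rfl
      rw [map_zero, zero_add, zero_add] at hu₀
      exact one_ne_zero hu₀
    have hP : Param σ k 1 u₀ := by
      unfold Param
      rw [if_neg h1, if_neg h2, map_one, mul_one]
      exact hu₀
    obtain ⟨x, hx⟩ := exists_of_isUJ (hX k 1 u₀ hP)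
    have hxB : x ∈ Bsub n σ := by
      rw [mem_Bsub_iff]
      intro a b hab
      rw [hx]
      exact Cfsg.Agent.Helper65.SuBNCN.xMat_upper k 1 u₀ a b hab
    refine ⟨x, hxB, ?_⟩
    intro hB
    have h0 := (mem_Bsub_iff _).1 hB (Fin.rev (ia k)) (ia k) (by
      rw [Fin.lt_def, val_rev, val_ia]; omega)
    rw [mat_mul, mat_mul, hsk, hx, Cfsg.Agent.Helper65.SuBNCN.sMat_conj_apply] at h0
    have hs1 : sPerm k (Fin.rev (ia k)) = ia k := by
      apply Fin.ext
      rw [val_sPerm, if_neg h1, val_rev, val_ia]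
      rw [if_neg (by omega), if_pos rfl]
    have hs2 : sPerm k (ia k) = Fin.rev (ia k) := by
      apply Fin.ext
      rw [val_sPerm, if_neg h1, val_rev, val_ia]
      rw [if_pos rfl]
    have hsg : sSign c k (ia k) ≠ 0 := Cfsg.Agent.Helper53.SuBNSINJ.sSign_ne_zero c hc0 k _
    have hne_ib_rev : ib k ≠ Fin.rev (ia k) := by
      intro h
      have := congrArg Fin.val h
      rw [val_rev, val_ia, val_ib] at this
      omega
    have hxe : xMat σ k 1 u₀ (ia k) (Fin.rev (ia k)) = u₀ := by
      rw [xMat_apply, if_neg hne_ar, if_neg (fun h => hne_ib_rev h.2), if_neg, if_pos ⟨rfl, rfl⟩]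
      · ring
      · rintro ⟨h3, -⟩
        have := congrArg Fin.val h3
        rw [val_rev, val_ib, val_ia] at this
        omega
    rw [hs1, hs2, hxe] at h0
    exact (mul_ne_zero (mul_ne_zero hsg hu0) hsg) h0

end Cfsg.Agent.Helper45.OddBN
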