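import Mathlib
import Cfsg.Agent.Helper45.OddBN.MemS
import Cfsg.Agent.Helper93.SuBNMEMX
import Cfsg.Agent.Helper53.SuBNSINJ
import Cfsg.Agent.Helper93.SuBNXB
import Cfsg.Agent.Helper53.SuBNN1
import Cfsg.Agent.Helper81.SuBNN2
import Cfsg.Agent.Helper81.SuBNN3
import Cfsg.Agent.Helper81.SuBNS1
import Cfsg.Agent.Helper31.SuBNS2
import Cfsg.Agent.Helper73.SuBNR1I
import Cfsg.Agent.Helper5.SuBN.R1III
import Cfsg.Agent.Helper76.SuBNR2
import Cfsg.Agent.Helper87.SuBNR3I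
import Cfsg.Agent.Helper31.SuBNR3III
import Cfsg.Agent.Helper24.SuBNL1
import Cfsg.Agent.Helper24.SuBNSTEP0
import Cfsg.Agent.Helper76.SuBNSTEP1
import Cfsg.Agent.Helper97.SuBNSTEP2I
import Cfsg.Agent.Helper72.SuBNSTEP2III
import Cfsg.Agent.Helper72.SuBNRED
import Cfsg.Agent.Helper23.SuBNL2
import Cfsg.Agent.Helper63.SuBNTOP

/-!
# The (B,N)-pair of helper5's `SUJ n σ` for odd `n` (helper45, for S2547)

The assembly of helper5's `Skel` with the kind II root excluded: no element `c` with `σ c = -c` is needed.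
For `σ = id` and `(2 : F) ≠ 0` this is the (B,N)-pair of `SO_n(F)` for the antidiagonal form.
-/

set_option autoImplicit false

namespace Cfsg.Agent.Helper45.OddBN

open Matrix Cfsg.Agent.Helper5.SuBN

variable {F : Type*} [Field F] {n : ℕ} {σ : F →+* F}

section assembly

variable (hn : n % 2 = 1) (hσ : ∀ x, σ (σ x) = x) (u₀ : F) (hu₀ : u₀ + σ u₀ + 1 = 0)

include hσ in
theorem hX' : ∀ (k : Fin (n / 2)) (t u : F), Param σ k t u → IsUJ σ (xMat σ k t u) :=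
  fun k t u h => Cfsg.Agent.Helper93.SuBNMEMX.xMat_isUJ hσ k t u h

include hn in
theorem hS' : ∀ k : Fin (n / 2), IsUJ σ (sMat (1 : F) k) :=
  fun k => sMat_isUJ_odd hn 1 one_ne_zero k

include hn hσ in
theorem step_all (j A : ℕ) (hjA : j < A) (hA : A + j ≤ n - 1) (v : Fin n → F)
    (hv : hermJ σ v v = 0) (hvA : ∀ a : Fin n, A < a.val → v a = 0) (a : Fin n) (ha : a.val = A)
    (hva : v a ≠ 0) :
    ∃ h ∈ Bsub n σ ⊔ Nsub n σ 1, Fixj j h ∧ ∀ a : Fin n, A ≤ a.val → (mat h *ᵥ v) a = 0 := by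
  have han := a.2
  rcases lt_trichotomy (2 * A + 1) n with h1 | h1 | h1
  · exact Cfsg.Agent.Helper76.SuBNSTEP1.step_first hσ (hX' hσ) 1 (hS' hn) j A hjA h1 v hvA a ha hva
  · exact absurd (Cfsg.Agent.Helper24.SuBNSTEP0.step_middle A h1 v hv hvA a ha) hva
  · have hAn : A < n := by omega
    rcases lt_trichotomy (2 * (n - 1 - A) + 3) n with h2 | h2 | h2
    · exact Cfsg.Agent.Helper97.SuBNSTEP2I.step_second_I hσ (hX' hσ) 1 (hS' hn) j A hA hAn h2 v hvA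
        a ha hva
    · exact Cfsg.Agent.Helper72.SuBNSTEP2III.step_second_III hσ (hX' hσ) 1 (hS' hn) j A hA hAn h2 v
        hv hvA a ha hva
    · omega

include hn hσ in
/-- (TOP) -/
theorem sup_eq_top : Bsub n σ ⊔ Nsub n σ 1 = ⊤ :=
  Cfsg.Agent.Helper63.SuBNTOP.sup_eq_top_of 1 Cfsg.Agent.Helper24.SuBNL1.Pj_half_subset_Bsub
    (Cfsg.Agent.Helper23.SuBNL2.exists_mul_mem_Pj_succ 1
      (Cfsg.Agent.Helper72.SuBNRED.exists_reduce 1 (step_all hn hσ)))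

theorem Nsub_le_Mono : Nsub n σ (1 : F) ≤ Mono n σ := by
  unfold Nsub
  rw [sup_le_iff, Subgroup.closure_le]
  exact ⟨Cfsg.Agent.Helper53.SuBNN1.Sset_subset_Mono 1, Tsub_le_Mono⟩

theorem Bsub_inf_Nsub : Bsub n σ ⊓ Nsub n σ (1 : F) = Tsub n σ := by
  apply le_antisymm
  · rw [← Cfsg.Agent.Helper81.SuBNN2.Bsub_inf_Mono]
    exact inf_le_inf_left _ Nsub_le_Mono
  · exact le_inf Tsub_le_Bsub le_sup_right

include hn hσ in
theorem exists_factor (k : Fin (n / 2)) (s : UG n σ) (hs : mat s = sMat 1 k) (b : UG n σ)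
    (hb : b ∈ Bsub n σ) :
    ∃ y x : UG n σ, b = y * x ∧ s * y * s⁻¹ ∈ Bsub n σ ∧ x ∈ Xset σ k := by
  have hk := k.2
  rcases lt_trichotomy (2 * k.val + 3) n with h | h | h
  · exact Cfsg.Agent.Helper73.SuBNR1I.exists_factor_I hσ (hX' hσ) 1 k h s hs b hb
  · exact Cfsg.Agent.Helper5.SuBN.R1III.exists_factor_III hσ (hX' hσ) 1 k h s hs b hb
  · omega

include hn hσ in
theorem rank_one (k : Fin (n / 2)) (s : UG n σ) (hs : mat s = sMat 1 k) (x : UG n σ)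
    (hx : x ∈ Xset σ k) (hx1 : x ≠ 1) :
    ∃ b₁ ∈ Bsub n σ, ∃ x₂ ∈ Xset σ k, s * x * s⁻¹ = b₁ * s * x₂ := by
  have hk := k.2
  rcases lt_trichotomy (2 * k.val + 3) n with h | h | h
  · exact Cfsg.Agent.Helper87.SuBNR3I.rank_one_I hσ (hX' hσ) 1 k h s hs x hx hx1
  · exact Cfsg.Agent.Helper31.SuBNR3III.rank_one_III hσ (hX' hσ) 1 k h s hs x hx hx1
  · omega

include hn hσ in
/-- the double coset axiom from the rank one data -/
theorem mul_mem_union (s : UG n σ) (hs : s ∈ Sset n σ 1) (m : UG n σ) (hm : m ∈ Nsub n σ 1)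
    (b : UG n σ) (hb : b ∈ Bsub n σ) :
    s * b * m ∈ DoubleCoset.doubleCoset (s * m) (Bsub n σ : Set (UG n σ)) (Bsub n σ) ∪
      DoubleCoset.doubleCoset m (Bsub n σ : Set (UG n σ)) (Bsub n σ) := by
  obtain ⟨k, hk⟩ := hs
  obtain ⟨y, x, rfl, hy, hx⟩ := exists_factor hn hσ k s hk b hb
  have hmM := Nsub_le_Mono hm
  by_cases hx1 : x = 1
  · subst hx1
    left
    rw [DoubleCoset.mem_doubleCoset]
    refine ⟨s * y * s⁻¹, hy, 1, (Bsub n σ).one_mem, ?_⟩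
    group
  rcases Cfsg.Agent.Helper76.SuBNR2.conj_Xset_dichotomy 1 k s hk m hmM with h | h
  · left
    rw [DoubleCoset.mem_doubleCoset]
    refine ⟨s * y * s⁻¹, hy, m⁻¹ * x * m, h x hx, ?_⟩
    group
  · right
    obtain ⟨b₁, hb₁, x₂, hx₂, he⟩ := rank_one hn hσ k s hk x hx hx1
    have hss : s * s ∈ Bsub n σ :=
      Tsub_le_Bsub (Cfsg.Agent.Helper81.SuBNS1.sq_mem_Tsub 1 s ⟨k, hk⟩)
    rw [DoubleCoset.mem_doubleCoset]
    refine ⟨s * y * s⁻¹ * b₁ * (s * s), (Bsub n σ).mul_mem ((Bsub n σ).mul_mem hy hb₁) hss,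
      (s * m)⁻¹ * x₂ * (s * m), h x₂ hx₂, ?_⟩
    have e : s * (y * x) * m = s * y * s⁻¹ * (s * x * s⁻¹) * s * m := by group
    rw [e, he]
    group

/-- **the (B,N)-pair of `SUJ n σ`, `n` odd** -/
noncomputable def bnPair : Cfsg.BNPair (UG n σ) where
  B := Bsub n σ
  N := Nsub n σ 1
  S := Sset n σ 1
  sup_eq_top := sup_eq_top hn hσ
  conj_mem := by
    intro m hm t ht
    rw [Bsub_inf_Nsub] at ht
    exact Tsub_le_Bsub (Cfsg.Agent.Helper81.SuBNN3.conj_mem_Tsub m (Nsub_le_Mono hm) t ht)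
  subset := fun s hs => (le_sup_left : Subgroup.closure (Sset n σ 1) ≤ Nsub n σ 1)
    (Subgroup.subset_closure hs)
  sq_mem := fun s hs => Tsub_le_Bsub (Cfsg.Agent.Helper81.SuBNS1.sq_mem_Tsub 1 s hs)
  inj := fun s hs s' hs' h =>
    Cfsg.Agent.Helper31.SuBNS2.eq_of_inv_mul_mem 1 one_ne_zero s s' hs hs' h
  closure_sup := by
    rw [Bsub_inf_Nsub]
    rfl
  mul_mem_union := fun s hs m hm b hb => mul_mem_union hn hσ s hs m hm b hb
  conj_ne := fun s hs => conj_ne_odd hn (hX' hσ) 1 one_ne_zero u₀ hu₀ s hs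

end assembly

end Cfsg.Agent.Helper45.OddBN
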