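import Mathlib
import Cfsg.Agent.Helper45.OddBN.Pair
import Cfsg.Agent.Helper5.SuBN.GenFix
import Cfsg.Agent.Helper5.SpBN.GenMax
import Cfsg.Agent.Helper19.StBN.Abstract
import Cfsg.Agent.Helper55.SpBNP11
import Cfsg.Agent.Helper55.SpBNP13
import Cfsg.Agent.Helper55.SpBNP14
import Cfsg.Agent.Helper63.SuBNMXb
import Cfsg.Agent.Helper65.SuBNBUT
import Cfsg.Agent.Helper23.SuBNUN
import Cfsg.Agent.Helper65.SuBNP9
import Cfsg.Agent.Helper53.SuBNP12

/-!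
# The Steinberg character of helper5's `SUJ n σ` for odd `n` (helper45, for S2547)
-/

set_option autoImplicit false

namespace Cfsg.Agent.Helper45.OddBN

open Matrix Cfsg Cfsg.Agent.Helper5.SuBN
open Cfsg.Agent.Helper6 Cfsg.Agent.Helper19.Stein Cfsg.Agent.Helper19.StBN

variable {F : Type*} [Field F] {n : ℕ} {σ : F →+* F}

theorem Usub_inf_Tsub (g : UG n σ) (hU : g ∈ Usub n σ) (hT : g ∈ Tsub n σ) : g = 1 := by
  apply mat_injective
  ext a b
  rw [mat_one]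
  by_cases hab : a = b
  · subst hab
    rw [hU.2, Matrix.one_apply_eq]
  · rw [hT a b hab, Matrix.one_apply_ne hab]

theorem finite_Sset (c : F) (hc0 : c ≠ 0) : Finite ↥(Sset n σ c) := by
  classical
  let f : ↥(Sset n σ c) → Fin (n / 2) := fun s => Classical.choose s.2
  have hf : ∀ s : ↥(Sset n σ c), mat s.1 = sMat c (f s) := fun s => Classical.choose_spec s.2
  apply Finite.of_injective f
  intro s s' h
  apply Subtype.ext
  apply mat_injective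
  rw [hf s, hf s', h]

section

variable [Fintype F] (hn : n % 2 = 1) (hσ : ∀ x, σ (σ x) = x) (u₀ : F) (hu₀ : u₀ + σ u₀ + 1 = 0)

include hn hσ u₀ hu₀ in
/-- the Steinberg character of `SUJ n σ`, `n` odd, with the data needed to restrict it to a normal subgroup
containing the upper unitriangular matrices -/
theorem steinberg_UG_odd (p : ℕ) [Fact p.Prime] [CharP F p] :
    ∃ χ : UG n σ → ℂ, IsIrrCharacter (UG n σ) χ ∧
      (∀ b : ↥(Bsub n σ), χ (b : UG n σ) =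
        fixedPointCharacter ((Tsub n σ).subgroupOf (Bsub n σ)) b) ∧
      (∀ Q : Sylow p (UG n σ), Nat.card Q = Nat.card (Usub n σ)) ∧
      (∀ g : UG n σ, (∀ u ∈ Usub n σ, g⁻¹ * u * g ∈ Bsub n σ) → g ∈ Bsub n σ) := by
  classical
  have : Finite ↥(bnPair (n := n) hn hσ u₀ hu₀).S := finite_Sset (n := n) (σ := σ) 1 one_ne_zero
  have : Fintype ↥(bnPair (n := n) hn hσ u₀ hu₀).S := Fintype.ofFinite _
  set P' : Cfsg.BNPair (UG n σ) := bnPair (n := n) hn hσ u₀ hu₀ with hP'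
  -- the root data
  have hdec : ∀ s : P'.S, ∀ b ∈ P'.B, ∃ y x : UG n σ, b = y * x ∧ s.1 * y * s.1⁻¹ ∈ P'.B ∧
      x ∈ Xset σ (Classical.choose s.2) :=
    fun s b hb => exists_factor hn hσ (Classical.choose s.2) s.1 (Classical.choose_spec s.2) b hb
  -- the longest element
  obtain ⟨n₀, hn₀, hmax, hnot⟩ := Cfsg.Agent.Helper5.SpBN.exists_maxR_not_conj P'
    (fun s => Xset σ (Classical.choose s.2)) hdec
  have hnot' : ∀ k : Fin (n / 2), ¬ ∀ x ∈ Xset σ k, n₀ * x * n₀⁻¹ ∈ Bsub n σ := by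
    intro k hk
    obtain ⟨s, hs⟩ := exists_of_isUJ (sMat_isUJ_odd (σ := σ) hn 1 one_ne_zero k)
    have hsS : s ∈ Sset n σ 1 := ⟨k, hs⟩
    apply hnot ⟨s, hsS⟩
    have hkk : Classical.choose (⟨s, hsS⟩ : ↥P'.S).2 = k :=
      Cfsg.Agent.Helper53.SuBNSINJ.sMat_injective 1 one_ne_zero
        ((Classical.choose_spec (⟨s, hsS⟩ : ↥P'.S).2).symm.trans hs)
    rw [hkk]
    exact hk
  have hH : ∀ u ∈ P'.B, n₀⁻¹ * u * n₀ ∈ P'.B ↔ u ∈ Tsub n σ := fun u hu =>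
    Cfsg.Agent.Helper63.SuBNMXb.conj_mem_Bsub_iff_of_not n₀ (Nsub_le_Mono hn₀) hnot' u hu
  -- the Sylow subgroups
  have h10 : ∀ g : UG n σ, (∀ u ∈ Usub n σ, g⁻¹ * u * g ∈ Bsub n σ) → g ∈ Bsub n σ :=
    fun g hg => mem_B_of_conj_gen P' (fun s => Xset σ (Classical.choose s.2)) hdec (Usub n σ)
      (fun b hb u hu => Cfsg.Agent.Helper23.SuBNUN.conj_mem_Usub b hb u hu)
      (fun s => Cfsg.Agent.Helper93.SuBNXB.Xset_subset_Usub _) g hg
  have h11 : ¬ p ∣ (Bsub n σ).index :=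
    Cfsg.Agent.Helper55.SpBNP11.not_dvd_index_of_fixed p (Usub n σ) (Bsub n σ) Usub_le_Bsub
      (Cfsg.Agent.Helper65.SuBNP9.Usub_isPGroup p) h10
  have hidx : ((Tsub n σ).subgroupOf (Bsub n σ)).index = Nat.card (Usub n σ) :=
    Cfsg.Agent.Helper55.SpBNP13.index_subgroupOf_eq_card (Usub n σ) (Tsub n σ) (Bsub n σ)
      Usub_le_Bsub Tsub_le_Bsub
      (fun b hb => Cfsg.Agent.Helper65.SuBNBUT.exists_Usub_mul_Tsub b hb)
      (fun g hu ht => Usub_inf_Tsub g hu ht)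
  have h13 : ∃ k : ℕ, ((Tsub n σ).subgroupOf (Bsub n σ)).index = p ^ k := by
    obtain ⟨k, hk⟩ := (IsPGroup.iff_card (p := p) (G := Usub n σ)).mp
      (Cfsg.Agent.Helper65.SuBNP9.Usub_isPGroup p)
    exact ⟨k, by rw [hidx, hk]⟩
  have hsyl : ∀ Q : Sylow p (UG n σ), Nat.card Q = ((Tsub n σ).subgroupOf (Bsub n σ)).index :=
    fun Q => Cfsg.Agent.Helper55.SpBNP14.card_sylow_of_chain p (Tsub n σ) (Bsub n σ) Tsub_le_Bsub
      h11 (Cfsg.Agent.Helper53.SuBNP12.not_dvd_card_Tsub p) h13 Q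
  refine ⟨stFun P', stFun_isIrr P' n₀ hn₀ hmax (Tsub n σ) hH, ?_, ?_, h10⟩
  · intro b
    exact stFun_restrict P' n₀ hn₀ hmax (Tsub n σ) hH b
  · intro Q
    rw [hsyl Q, hidx]

end

end Cfsg.Agent.Helper45.OddBN
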