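import Mathlib
import Cfsg.Prelude.Def_Classical
import Cfsg.Agent.Helper45.OddBN.SgDefs
import Cfsg.Agent.Helper45.OddBN.St
import Cfsg.Agent.Helper45.OddBN.Desc
import Cfsg.Agent.Helper24.OddStCL
import Cfsg.Agent.Helper24.OddStBR1
import Cfsg.Agent.Helper47.OddStSG1
import Cfsg.Agent.Helper87.OddStSG2
import Cfsg.Agent.Helper23.OddStSG3
import Cfsg.Agent.Helper47.OddStSG4
import Cfsg.Agent.Helper23.OddStSG5
import Cfsg.Agent.Helper31.OddStBR2
import Cfsg.Agent.Helper31.OddStBR3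

/-!
# The Steinberg character of `Ω_{2m+1}(F)`, `|F|` odd (helper45, for S2547)

Pieces: helper24 (CL, BR1), helper47 (SG1, SG4), helper87 (SG2), helper23 (SG3, SG5), helper31 (BR2, BR3);
the (B,N)-pair is assembled from the pieces of helper5's farm for S2546 at `σ = id`.
-/

set_option autoImplicit false

namespace Cfsg.Agent.Helper45.OddBN

open Matrix Cfsg Cfsg.Agent.Helper5.SuBN

section siegel

variable {F : Type*} [Field F] {n : ℕ}

/-- the upper unitriangular matrices of `SO_n` are products of commutators -/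
theorem Usub_le_commutator (h2 : (2 : F) ≠ 0) :
    Usub n (RingHom.id F) ≤ commutator (SOJ n F) :=
  Cfsg.Agent.Helper23.OddStSG5.Usub_le_commutator_of
    (fun j hj w h1 h2' => Cfsg.Agent.Helper47.OddStSG1.sgMat_isUJ h2 j hj w h1 h2')
    (fun j hj w h1 h2' r hr => Cfsg.Agent.Helper87.OddStSG2.sg_mem_commutator_of
      (fun w j hj a b => Cfsg.Agent.Helper47.OddStSG1.sgMat_isUJ h2 j hj w a b) h2 j hj w h1 h2' r hr)
    (fun j hj u hu hrow => Cfsg.Agent.Helper23.OddStSG3.sg_step h2 j hj u hu hrow)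
    Cfsg.Agent.Helper47.OddStSG4.eq_one_of_rowFix_half

end siegel

section bridge

variable {F : Type*} [Field F] (m : ℕ)

/-- the commutator subgroup of `SO_{2m+1}` for the antidiagonal form is the Prelude's `Ω(quadFormOdd m F)` -/
theorem nonempty_equiv_Omega (h2 : (2 : F) ≠ 0) :
    Nonempty (↥(commutator (SOJ (2 * m + 1) F)) ≃* ↥(Cfsg.Omega F (Cfsg.quadFormOdd m F))) := by
  obtain ⟨h1, h1', hQ⟩ := Cfsg.Agent.Helper31.OddStBR2.cMat_spec (F := F) m h2
  obtain ⟨f, hf, hcov⟩ := Cfsg.Agent.Helper31.OddStBR3.exists_hom_isometryGroup m h2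
    (Cfsg.Agent.Helper31.OddStBR2.cMat m F) (Cfsg.Agent.Helper31.OddStBR2.cInv m F) h1 h1' hQ
  exact Cfsg.Agent.Helper24.OddStBR1.commutator_equiv_of_central_cover f hf hcov

end bridge

variable {F : Type*} [Field F] [Fintype F] {n : ℕ}

/-- the Steinberg character of the commutator subgroup of `SO_n`, `n` odd -/
theorem steinberg_commutator (h2 : (2 : F) ≠ 0) (hn : n % 2 = 1) (p : ℕ) [Fact p.Prime]
    [CharP F p] :
    ∃ χ₀ : ↥(commutator (SOJ n F)) → ℂ, IsIrrCharacter ↥(commutator (SOJ n F)) χ₀ ∧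
      (∀ z ∈ Subgroup.center ↥(commutator (SOJ n F)), χ₀ z = χ₀ 1) ∧
      (∀ Q : Sylow p ↥(commutator (SOJ n F)), χ₀ 1 = Nat.card Q) ∧
      ¬ p ∣ Nat.card (Subgroup.center ↥(commutator (SOJ n F))) := by
  classical
  have : Finite (SOJ n F) := inferInstance
  have : Fintype (SOJ n F) := Fintype.ofFinite _
  have hu₀ : (-(2⁻¹) : F) + (RingHom.id F) (-(2⁻¹)) + 1 = 0 := by
    rw [RingHom.id_apply]
    field_simp
    ring
  obtain ⟨χ, hχ, hres, hsyl, h10⟩ :=
    steinberg_UG_odd (σ := RingHom.id F) hn (fun _ => rfl) (-(2⁻¹)) hu₀ p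
  have hUN : Usub n (RingHom.id F) ≤ commutator (SOJ n F) := Usub_le_commutator h2
  have hBUT : ∀ b ∈ Bsub n (RingHom.id F), ∃ u ∈ Usub n (RingHom.id F),
      ∃ t ∈ Tsub n (RingHom.id F), b = u * t :=
    fun b hb => Cfsg.Agent.Helper65.SuBNBUT.exists_Usub_mul_Tsub b hb
  have hUT : ∀ g, g ∈ Usub n (RingHom.id F) → g ∈ Tsub n (RingHom.id F) → g = 1 :=
    fun g hu ht => Usub_inf_Tsub g hu ht
  have hidx : ¬ p ∣ (commutator (SOJ n F)).index :=
    not_dvd_index_of_le p (Usub n (RingHom.id F)) _ hUN hsyl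
  obtain ⟨k, hk⟩ := (IsPGroup.iff_card (p := p) (G := Usub n (RingHom.id F))).mp
    (Cfsg.Agent.Helper65.SuBNP9.Usub_isPGroup p)
  have hdeg : χ 1 = ((p ^ k : ℕ) : ℂ) := by
    have h := hres 1
    rw [Cfsg.Agent.Helper19.Stein.fixedPointCharacter_one,
      Cfsg.Agent.Helper55.SpBNP13.index_subgroupOf_eq_card _ _ _ Usub_le_Bsub Tsub_le_Bsub hBUT hUT,
      hk] at h
    exact h
  have hirr := Cfsg.Agent.Helper24.OddStCL.irr_restrict_of_coprime (commutator (SOJ n F)) χ hχ p k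
    hdeg hidx
  exact descend_to_normal p (Bsub n (RingHom.id F)) (Usub n (RingHom.id F)) (Tsub n (RingHom.id F))
    (commutator (SOJ n F)) Usub_le_Bsub Tsub_le_Bsub hUN hBUT hUT χ hres hsyl h10 hirr

/-- **the Steinberg character of `PΩ_{2m+1}(F)`**, `|F|` odd -/
theorem steinberg_POmega_odd (p : ℕ) [Fact p.Prime] [CharP F p] (hodd : Odd (Fintype.card F))
    (m : ℕ) :
    ∃ χ : Cfsg.POmega F (Cfsg.quadFormOdd m F) → ℂ,
      Cfsg.IsIrrCharacter (Cfsg.POmega F (Cfsg.quadFormOdd m F)) χ ∧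
      ∀ P : Sylow p (Cfsg.POmega F (Cfsg.quadFormOdd m F)), χ 1 = Nat.card P ∧
        ∀ x : Cfsg.POmega F (Cfsg.quadFormOdd m F), x ∈ P → x ≠ 1 → χ x = 0 := by
  have h2 : (2 : F) ≠ 0 := by
    intro h
    have h2' : ((2 : ℕ) : F) = 0 := by exact_mod_cast h
    have hdvd : p ∣ 2 := (CharP.cast_eq_zero_iff F p 2).1 h2'
    have hp2 : p = 2 := (Nat.prime_dvd_prime_iff_eq Fact.out Nat.prime_two).1 hdvd
    obtain ⟨k, hk⟩ := FiniteField.card F p
    have heven : Even (Fintype.card F) := by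
      rw [hk.2, hp2]
      exact (Nat.even_pow' (PNat.ne_zero k)).2 even_two
    exact (Nat.not_even_iff_odd.2 hodd) heven
  obtain ⟨e⟩ := nonempty_equiv_Omega (F := F) m h2
  have hn : (2 * m + 1) % 2 = 1 := by omega
  exact steinberg_of_mulEquiv' e p (steinberg_commutator h2 hn p)

end Cfsg.Agent.Helper45.OddBN
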